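import Groth.Agent.EtaleSite.SH
import Groth.Agent.EtSupp.TateLoc
import Groth.Agent.EtCdTop.Basic
import Groth.Agent.EtaleSite.Recollement

/-!
# Étale neighbourhoods and cohomology: small transport lemmas
-/

set_option autoImplicit false
set_option backward.isDefEq.respectTransparency false

universe u

open CategoryTheory CategoryTheory.Limits AlgebraicGeometry Opposite Polynomial

noncomputable section

namespace Groth.Agent.RegDivMu

/-- A morphism from a strictly henselian local scheme lifts to étale neighbourhoods of the image of the closed point. -/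
theorem exists_lift {X X' : Scheme.{u}} (g : X' ⟶ X) [Etale g] (R : Type u) [CommRing R] [HenselianLocalRing R]
    [IsSepClosed (IsLocalRing.ResidueField R)] (σ : Spec (CommRingCat.of R) ⟶ X)
    (h : σ (IsLocalRing.closedPoint R) ∈ Set.range g) : ∃ σ' : Spec (CommRingCat.of R) ⟶ X', σ' ≫ g = σ := by
  obtain ⟨x', hx'⟩ := h
  obtain ⟨z, -, hz⟩ := Scheme.Pullback.exists_preimage_pullback (f := g) (g := σ) x' (IsLocalRing.closedPoint R) hx'
  have hcl : ∀ a, EtaleSite.closedPt R a = IsLocalRing.closedPoint R := fun a =>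
    IsLocalRing.PrimeSpectrum.comap_residue _ a
  obtain ⟨l, h₁, -⟩ := Scheme.exists_fac_of_etale_of_isSepClosed (pullback.snd g σ) (EtaleSite.closedPt R) z
    (hz.trans (hcl _).symm)
  obtain ⟨s, hs, -⟩ := EtaleSite.exists_section R (pullback.snd g σ) l h₁
  exact ⟨s ≫ pullback.fst g σ, by rw [Category.assoc, pullback.condition, reassoc_of% hs]⟩

/-- A strictly henselian ring in which `n` is invertible has an étale map to a neighbourhood with an `n`th root of unity. -/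
theorem exists_cyclotomic_lift {X : Scheme.{u}} (n : ℕ) [NeZero n] (hn : IsUnit (n : Γ(X, ⊤))) (R : Type u) [CommRing R]
    [HenselianLocalRing R] [IsSepClosed (IsLocalRing.ResidueField R)] (σ : Spec (CommRingCat.of R) ⟶ X) :
    ∃ (X' : Scheme.{u}) (g : X' ⟶ X) (_ : Etale g) (σ' : Spec (CommRingCat.of R) ⟶ X') (ζ : Γ(X', ⊤)),
      σ' ≫ g = σ ∧ IsUnit (n : Γ(X', ⊤)) ∧ aeval ζ (cyclotomic n ℤ) = 0 := by
  obtain ⟨X', g, hg, ζ, hx, hn', hζ⟩ := EtSupp.TateLoc.exists_cyclotomic_nhd n hn (σ (IsLocalRing.closedPoint R))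
  obtain ⟨σ', hσ'⟩ := exists_lift g R σ hx
  exact ⟨X', g, hg, σ', ζ, hσ', hn', hζ⟩

theorem root_appTop {A B : Scheme.{u}} (q : A ⟶ B) {n : ℕ} {ζ : Γ(B, ⊤)} (hζ : aeval ζ (cyclotomic n ℤ) = 0) :
    aeval (q.appTop ζ) (cyclotomic n ℤ) = 0 := by
  show aeval (q.appTop.hom.toIntAlgHom ζ) (cyclotomic n ℤ) = 0
  rw [aeval_algHom_apply, hζ, map_zero]

theorem nonempty_pull_mu_iso {X X' A : Scheme.{u}} (g : X' ⟶ X) [Etale g] [EtShriek.JCont g] (q : A ⟶ X')
    {n : ℕ} [NeZero n] (hn' : IsUnit (n : Γ(X', ⊤))) (ζ : Γ(X', ⊤)) (hζ : aeval ζ (cyclotomic n ℤ) = 0) :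
    Nonempty ((EtCoh.pull (q ≫ g)).obj (EtCoh.mu X n) ≅ EtCoh.mu A n) := by
  obtain ⟨e₁⟩ := EtSupp.TateLoc.nonempty_restr_mu_iso g n
  obtain ⟨e₂⟩ := EtSupp.MuConst.nonempty_iso hn' ζ hζ
  obtain ⟨e₃⟩ := EtSupp.MuConst.nonempty_iso (S := A) (by simpa using hn'.map q.appTop.hom) (q.appTop ζ) (root_appTop q hζ)
  exact ⟨(EtCore.pullComp q g).app _ ≪≫
    (EtCoh.pull q).mapIso ((EtaleSite.pullIsoRestrAlong g).app _ ≪≫ e₁ ≪≫ e₂) ≪≫
    EtCore.pullConst q (ZMod n) ≪≫ e₃.symm⟩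

/-- Cohomology along an isomorphism of schemes. -/
theorem card_H_pull_iso {A B : Scheme.{u}} (e : A ⟶ B) [IsIso e] (F : EtCoh.Ab B) (m : ℕ) :
    Nat.card (EtCoh.H B F m) = Nat.card (EtCoh.H A ((EtCoh.pull e).obj F) m) := by
  have : IsIso ((EtCoh.pullPushAdj e).unit.app F) := EtaleSite.isIso_of_stalk _ fun Ω _ _ ξ =>
    EtaleSite.isIso_stalk_unit_push e F ξ (e.homeomorph.surjective _)
  let u := (EtCoh.pullPushAdj e).unit.app F
  let G := (EtCoh.pull e).obj F
  have h₁ : Function.Bijective fun t : EtCoh.H B F m => t.comp (Abelian.Ext.mk₀ u) (add_zero m) :=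
    Function.bijective_iff_has_inverse.2 ⟨fun t => t.comp (Abelian.Ext.mk₀ (inv u)) (add_zero m),
      fun t => by simp, fun t => by simp⟩
  have h₂ : Function.Bijective fun t : Abelian.Ext ((EtCoh.pull e).obj (EtCoh.const B ℤ)) G m =>
      ((Abelian.Ext.mk₀ (EtCore.pullConst e ℤ).inv).comp t (zero_add m) : EtCoh.H A G m) :=
    Function.bijective_iff_has_inverse.2 ⟨fun t => (Abelian.Ext.mk₀ (EtCore.pullConst e ℤ).hom).comp t (zero_add m),
      fun t => by simp, fun t => by simp⟩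
  exact Nat.card_eq_of_bijective _ ((h₂.comp (EtCdTop.toExt_push_bijective e G m)).comp h₁)

end Groth.Agent.RegDivMu
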